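import Cfsg.Agent.EqLemmas

/-!
Normal elementary abelian subgroups of order `p ^ 2` in `p`-groups.
* `exists_central_mod`
* `exists_normal_card_sq`: a `p`-group of `p`-rank at least 3 has a normal `E_{p^2}`
* `card_le_mul_centralizer`: its centralizer meets any subgroup in index at most `p`
-/

set_option autoImplicit false

namespace Cfsg.Agent.PNormal

open scoped Pointwise

variable {P : Type*} [Group P] {p : ℕ}

theorem commutator_elem_pow {x y : P}
    (hc' : Commute (x * y * x⁻¹ * y⁻¹) y) (n : ℕ) :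
    x * y ^ n * x⁻¹ * (y ^ n)⁻¹ = (x * y * x⁻¹ * y⁻¹) ^ n := by
  induction n with
  | zero => simp
  | succ n ih =>
    set c := x * y * x⁻¹ * y⁻¹ with hcdef
    have h1 : x * y * x⁻¹ = c * y := by simp [hcdef]
    have h2 : x * y ^ n * x⁻¹ = c ^ n * y ^ n := by rw [← ih]; simp
    calc x * y ^ (n + 1) * x⁻¹ * (y ^ (n + 1))⁻¹
        = (x * y ^ n * x⁻¹) * (x * y * x⁻¹) * (y ^ (n + 1))⁻¹ := by rw [pow_succ]; group
      _ = c ^ n * y ^ n * (c * y) * (y ^ (n + 1))⁻¹ := by rw [h1, h2]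
      _ = c ^ n * c * (y ^ n * y) * (y ^ (n + 1))⁻¹ := by
          rw [mul_assoc (c ^ n) (y ^ n), ← mul_assoc (y ^ n) c y, ((hc'.pow_right n).symm).eq]
          group
      _ = c ^ (n + 1) := by rw [← pow_succ, ← pow_succ, mul_inv_cancel_right]

variable [Finite P] [hp : Fact p.Prime]

/-- Between normal subgroups `V < N` of a `p`-group there is an element of `N` central modulo `V`
of order `p` modulo `V`. -/
theorem exists_central_mod (hP : IsPGroup p P) {V N : Subgroup P} [V.Normal] [N.Normal] (h : V < N) :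
    ∃ b ∈ N, b ∉ V ∧ b ^ p ∈ V ∧ ∀ g : P, g * b * g⁻¹ * b⁻¹ ∈ V := by
  set q := QuotientGroup.mk' V
  set N' := N.map q
  have : N'.Normal := Subgroup.Normal.map inferInstance q (QuotientGroup.mk'_surjective V)
  have hN' : Nontrivial N' := by
    rw [Subgroup.nontrivial_iff_ne_bot]
    intro hb
    rw [Subgroup.map_eq_bot_iff, QuotientGroup.ker_mk'] at hb
    exact not_le_of_gt h hb
  let act : MulAction (P ⧸ V) N' := MulAction.compHom N' (MulAut.conjNormal : P ⧸ V →* MulAut N')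
  have hQ : IsPGroup p (P ⧸ V) := hP.to_quotient V
  have hdvd : p ∣ Nat.card N' := by
    obtain ⟨n, hn, hcard⟩ := (hQ.to_subgroup N').nontrivial_iff_card.1 hN'
    exact hcard ▸ dvd_pow_self p (Nat.pos_iff_ne_zero.1 hn)
  have h1 : (1 : N') ∈ MulAction.fixedPoints (P ⧸ V) N' := fun g => map_one (MulAut.conjNormal g)
  obtain ⟨y, hy, hy1⟩ := hQ.exists_fixed_point_of_prime_dvd_card_of_fixed_point N' hdvd h1
  have hy' : ∀ g : P ⧸ V, g * (y : P ⧸ V) * g⁻¹ = y := fun g => by
    have := congrArg Subtype.val (hy g)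
    exact (MulAut.conjNormal_apply g y).symm.trans this
  -- pass to a power of order p
  obtain ⟨k, hk⟩ := IsPGroup.iff_orderOf.1 hQ (y : P ⧸ V)
  have hk0 : k ≠ 0 := by
    rintro rfl
    rw [pow_zero, orderOf_eq_one_iff] at hk
    exact hy1 (Subtype.ext hk.symm)
  set w : P ⧸ V := (y : P ⧸ V) ^ p ^ (k - 1) with hw
  have hword : orderOf w = p := by
    rw [hw, orderOf_pow' _ (pow_ne_zero _ hp.out.ne_zero), hk,
      Nat.gcd_eq_right (pow_dvd_pow p (Nat.sub_le k 1)), Nat.pow_div (Nat.sub_le k 1) hp.out.pos]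
    conv_rhs => rw [← pow_one p]
    congr 1
    omega
  have hwc : ∀ g : P ⧸ V, g * w * g⁻¹ = w := fun g => by rw [hw, ← conj_pow, hy']
  obtain ⟨b, hb, hbw⟩ : ∃ b ∈ N, q b = w := N'.pow_mem y.2 _
  refine ⟨b, hb, fun hbV => ?_, ?_, fun g => ?_⟩
  · rw [QuotientGroup.mk'_apply, (QuotientGroup.eq_one_iff b).2 hbV] at hbw
    rw [← hbw, orderOf_one] at hword
    exact hp.out.one_lt.ne hword
  · rw [← QuotientGroup.eq_one_iff, QuotientGroup.mk_pow]
    show q b ^ p = 1
    rw [hbw, ← hword, pow_orderOf_eq_one]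
  · rw [← QuotientGroup.eq_one_iff]
    show q (g * b * g⁻¹ * b⁻¹) = 1
    rw [map_mul, map_mul, map_mul, map_inv, map_inv, hbw, hwc, mul_inv_cancel]

/-- An element of order `p` commuting with a subgroup `Z` of order `p` not containing it. -/
theorem card_sup_zpowers {Z : Subgroup P} {u : P} (hZ : Nat.card Z = p)
    (hZc : ∀ z ∈ Z, Commute u z) (hup : u ^ p = 1) (hu : u ∉ Z) :
    Nat.card ↥(Z ⊔ Subgroup.zpowers u) = p ^ 2 := by
  have hord : Nat.card (Subgroup.zpowers u) = p := by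
    rw [Nat.card_zpowers]
    exact orderOf_eq_prime hup (fun h => hu (h ▸ Z.one_mem))
  have hd : Disjoint (Subgroup.zpowers u) Z := by
    rw [disjoint_iff]
    by_contra hne
    have h1 : Nat.card ↥(Subgroup.zpowers u ⊓ Z) ∣ p := by
      have := Subgroup.card_dvd_of_le (inf_le_left : Subgroup.zpowers u ⊓ Z ≤ Subgroup.zpowers u)
      rwa [hord] at this
    rcases (Nat.dvd_prime hp.out).1 h1 with h | h
    · exact hne (Subgroup.eq_bot_of_card_eq _ h)
    · have := Subgroup.eq_of_le_of_card_ge (inf_le_left : Subgroup.zpowers u ⊓ Z ≤ Subgroup.zpowers u)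
        (by rw [h, hord])
      exact hu (this.ge (Subgroup.mem_zpowers u)).2
  have hn : Subgroup.zpowers u ≤ Subgroup.normalizer (Z : Set P) := by
    refine le_trans ?_ (Subgroup.centralizer_le_normalizer _)
    rw [Subgroup.zpowers_le, Subgroup.mem_centralizer_iff]
    exact fun z hz => (hZc z hz).symm.eq
  have hcoe := Subgroup.coe_mul_of_right_le_normalizer_left Z (Subgroup.zpowers u) hn
  have hprod : ∀ x : ↥(Z ⊔ Subgroup.zpowers u), ∃ z : Z × Subgroup.zpowers u, (z.1 : P) * z.2 = x := by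
    intro x
    have hx : (x : P) ∈ (Z : Set P) * (Subgroup.zpowers u : Set P) := by rw [← hcoe]; exact x.2
    obtain ⟨z, hz, v, hv, hzv⟩ := Set.mem_mul.1 hx
    exact ⟨(⟨z, hz⟩, ⟨v, hv⟩), hzv⟩
  let f : Z × Subgroup.zpowers u → ↥(Z ⊔ Subgroup.zpowers u) := fun z =>
    ⟨(z.1 : P) * z.2, mul_mem (Subgroup.mem_sup_left z.1.2) (Subgroup.mem_sup_right z.2.2)⟩
  have hf : Function.Bijective f := by
    refine ⟨fun a b hab => ?_, fun x => ?_⟩
    · have hab' : (a.1 : P) * a.2 = b.1 * b.2 := congrArg Subtype.val hab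
      exact Subgroup.mul_injective_of_disjoint hd.symm hab'
    · obtain ⟨z, hz⟩ := hprod x
      exact ⟨z, Subtype.ext hz⟩
  rw [← Nat.card_eq_of_bijective f hf, Nat.card_prod, hZ, hord, sq]

omit [Finite P] hp in
theorem commutative_sup {A : Subgroup P} {b : P} (hA : IsMulCommutative A)
    (hb : ∀ a ∈ A, Commute b a) : IsMulCommutative ↥(A ⊔ Subgroup.zpowers b) := by
  have h0 := hA
  rw [← Subgroup.le_centralizer_iff_isMulCommutative] at h0 ⊢
  have hA' : A ⊔ Subgroup.zpowers b ≤ Subgroup.centralizer (A : Set P) := by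
    refine sup_le h0 ?_
    rw [Subgroup.zpowers_le, Subgroup.mem_centralizer_iff]
    exact fun a ha => (hb a ha).symm.eq
  have hb' : A ⊔ Subgroup.zpowers b ≤ Subgroup.centralizer (Subgroup.zpowers b : Set P) := by
    refine sup_le ?_ (Subgroup.le_centralizer _)
    rw [Subgroup.le_centralizer_iff, Subgroup.zpowers_le, Subgroup.mem_centralizer_iff]
    exact fun a ha => (hb a ha).symm.eq
  rw [Subgroup.le_centralizer_iff]
  refine sup_le ?_ ?_
  · rw [Subgroup.le_centralizer_iff]; exact hA'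
  · rw [Subgroup.le_centralizer_iff]; exact hb'

omit [Finite P] in
theorem elementary_sup {A : Subgroup P} {b : P} (hA : IsElementaryAbelian p A)
    (hb : ∀ a ∈ A, Commute b a) (hbp : b ^ p = 1) :
    IsElementaryAbelian p (A ⊔ Subgroup.zpowers b) := by
  refine ⟨commutative_sup hA.1 hb, fun x hx => ?_⟩
  have hn : Subgroup.zpowers b ≤ Subgroup.normalizer (A : Set P) := by
    refine le_trans ?_ (Subgroup.centralizer_le_normalizer _)
    rw [Subgroup.zpowers_le, Subgroup.mem_centralizer_iff]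
    exact fun a ha => (hb a ha).symm.eq
  rw [← SetLike.mem_coe, Subgroup.coe_mul_of_right_le_normalizer_left A _ hn] at hx
  obtain ⟨a, ha, c, ⟨i, rfl⟩, rfl⟩ := Set.mem_mul.1 hx
  rw [((hb a ha).symm.zpow_right i).mul_pow, hA.2 a ha, one_mul, ← zpow_natCast, ← zpow_mul,
    mul_comm, zpow_mul, zpow_natCast, hbp, one_zpow]

omit [Finite P] hp in
theorem normal_sup_zpowers {Z : Subgroup P} [Z.Normal] {u : P}
    (hu : ∀ g : P, g * u * g⁻¹ ∈ Z ⊔ Subgroup.zpowers u) : (Z ⊔ Subgroup.zpowers u).Normal := by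
  refine ⟨fun x hx g => ?_⟩
  have h : (Z ⊔ Subgroup.zpowers u).map (MulAut.conj g).toMonoidHom ≤ Z ⊔ Subgroup.zpowers u := by
    rw [Subgroup.map_sup, MonoidHom.map_zpowers]
    refine sup_le (le_sup_of_le_left ?_) (Subgroup.zpowers_le.2 (hu g))
    rintro _ ⟨y, hy, rfl⟩
    exact (inferInstance : Z.Normal).conj_mem y hy g
  exact h ⟨x, hx, rfl⟩

/-- A normal subgroup of order at least `p ^ 2` of exponent `p`, abelian, contains a normal
subgroup of order exactly `p ^ 2`. -/
theorem exists_normal_sq_le (hP : IsPGroup p P) {N : Subgroup P} [N.Normal]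
    (hN : IsElementaryAbelian p N) (hc : p ^ 2 ≤ Nat.card N) :
    ∃ U : Subgroup P, U.Normal ∧ IsElementaryAbelian p U ∧ Nat.card U = p ^ 2 := by
  have hN1 : (⊥ : Subgroup P) < N := by
    rw [bot_lt_iff_ne_bot]
    rintro rfl
    rw [Subgroup.card_bot] at hc
    nlinarith [hp.out.two_le]
  obtain ⟨z, hzN, hz1, hzp, hzc⟩ := exists_central_mod hP hN1
  rw [Subgroup.mem_bot] at hz1 hzp
  have hzc' : ∀ g : P, g * z * g⁻¹ = z := fun g =>
    mul_inv_eq_one.1 ((Subgroup.mem_bot).1 (hzc g))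
  set Z := Subgroup.zpowers z with hZdef
  have hZcard : Nat.card Z = p := by rw [Nat.card_zpowers]; exact orderOf_eq_prime hzp hz1
  have hZn : Z.Normal := ⟨fun x hx g => by
    obtain ⟨i, rfl⟩ := hx
    exact ⟨i, by show z ^ i = g * z ^ i * g⁻¹; rw [← conj_zpow, hzc']⟩⟩
  have hZN : Z < N := by
    refine lt_of_le_of_ne (Subgroup.zpowers_le.2 hzN) ?_
    intro he
    rw [← he, hZcard] at hc
    nlinarith [hp.out.two_le]
  obtain ⟨u, huN, huZ, -, huc⟩ := exists_central_mod hP hZN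
  have hcom : ∀ a ∈ Z, Commute u a := fun a ha => by
    have := hN.1
    exact congrArg Subtype.val (mul_comm' (⟨u, huN⟩ : N) ⟨a, hZN.le ha⟩)
  refine ⟨Z ⊔ Subgroup.zpowers u, ?_, ?_, card_sup_zpowers hZcard hcom (hN.2 u huN) huZ⟩
  · have := hZn
    refine normal_sup_zpowers fun g => ?_
    have := mul_mem (Subgroup.mem_sup_left (huc g)) (Subgroup.mem_sup_right (Subgroup.mem_zpowers u))
    simpa using this
  · exact elementary_sup ⟨by
      have := Subgroup.zpowers_isMulCommutative z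
      exact this, fun a ha => hN.2 a (hZN.le ha)⟩ hcom (hN.2 u huN)

omit [Finite P] hp in
theorem eq_zpow_of_conj {a : P} {A : Subgroup P} (hA : Subgroup.zpowers a = A) [A.Normal] (x : P) :
    ∃ r : ℤ, x * a * x⁻¹ = a ^ r := by
  have : x * a * x⁻¹ ∈ Subgroup.zpowers a :=
    hA ▸ (inferInstance : A.Normal).conj_mem a (hA ▸ Subgroup.mem_zpowers a) x
  obtain ⟨r, hr⟩ := this
  exact ⟨r, hr.symm⟩

/-- A finite abelian `p`-subgroup with at most `p` elements of order dividing `p` is cyclic. -/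
theorem exists_generator (hP : IsPGroup p P) {A : Subgroup P} (hA : IsMulCommutative A)
    (hA1 : A ≠ ⊥) (hsmall : ∀ E : Subgroup P, E ≤ A → IsElementaryAbelian p E → Nat.card E ≤ p) :
    ∃ a n, Subgroup.zpowers a = A ∧ orderOf a = p ^ n ∧ 1 ≤ n := by
  have hcomm : ∀ {x y : P}, x ∈ A → y ∈ A → Commute x y := fun {x y} hx hy =>
    congrArg Subtype.val (mul_comm' (⟨x, hx⟩ : A) ⟨y, hy⟩)
  obtain ⟨a, ha, hmax⟩ := (Set.toFinite (A : Set P)).exists_maximalFor orderOf _ ⟨1, A.one_mem⟩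
  obtain ⟨n, hn⟩ := IsPGroup.iff_orderOf.1 hP a
  have hn1 : 1 ≤ n := by
    by_contra h0
    obtain ⟨x, hx, hx1⟩ := (Subgroup.bot_or_exists_ne_one A).resolve_left hA1
    have h1 : orderOf a = 1 := by rw [hn, show n = 0 by omega, pow_zero]
    have := hmax hx (by rw [h1]; exact orderOf_pos x)
    rw [h1] at this
    exact hx1 (orderOf_eq_one_iff.1 (le_antisymm this (orderOf_pos x)))
  refine ⟨a, n, le_antisymm (Subgroup.zpowers_le.2 ha) fun b hb => ?_, hn, hn1⟩
  by_contra hbn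
  -- a first power of b inside <a>
  have hex : ∃ s, b ^ p ^ s ∈ Subgroup.zpowers a := by
    obtain ⟨k, hk⟩ := hP b
    exact ⟨k, hk ▸ one_mem _⟩
  classical
  have hs0 : Nat.find hex ≠ 0 := fun h0 => hbn (by simpa [h0] using Nat.find_spec hex)
  obtain ⟨s, hs⟩ := Nat.exists_eq_succ_of_ne_zero hs0
  have hsp : b ^ p ^ (s + 1) ∈ Subgroup.zpowers a := by rw [← Nat.succ_eq_add_one, ← hs]; exact Nat.find_spec hex
  set c := b ^ p ^ s with hc
  have hcA : c ∈ A := A.pow_mem hb _
  have hcn : c ∉ Subgroup.zpowers a := Nat.find_min hex (by omega)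
  have hcp : c ^ p ∈ Subgroup.zpowers a := by rwa [hc, ← pow_mul, ← pow_succ]
  obtain ⟨j, hj⟩ := Subgroup.mem_zpowers_iff.1 hcp
  obtain ⟨m, hm⟩ := IsPGroup.iff_orderOf.1 hP c
  have hmn : m ≤ n := by
    rcases le_total (orderOf a) (orderOf c) with h | h
    · have := hmax hcA h
      rw [hn, hm] at this
      exact (Nat.pow_le_pow_iff_right hp.out.one_lt).1 this
    · rw [hn, hm] at h
      exact (Nat.pow_le_pow_iff_right hp.out.one_lt).1 h
  obtain ⟨i, hi⟩ : (p : ℤ) ∣ j := by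
    have h1 : c ^ p ^ n = 1 := orderOf_dvd_iff_pow_eq_one.1 (hm ▸ pow_dvd_pow p hmn)
    have h2 : a ^ (j * ((p ^ (n - 1) : ℕ) : ℤ)) = 1 := by
      rw [zpow_mul, hj, zpow_natCast, ← pow_mul, ← pow_succ', show n - 1 + 1 = n by omega, h1]
    rw [← orderOf_dvd_iff_zpow_eq_one, hn, show n = n - 1 + 1 by omega, pow_succ',
      show n - 1 + 1 - 1 = n - 1 by omega] at h2
    push_cast at h2
    exact Int.dvd_of_mul_dvd_mul_right (by exact pow_ne_zero _ (by exact_mod_cast hp.out.ne_zero)) h2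
  -- d has order p, outside <a>
  set d := c * a ^ (-i) with hd
  have hdA : d ∈ A := mul_mem hcA (A.zpow_mem ha _)
  have hdp : d ^ p = 1 := by
    rw [hd, (hcomm hcA (A.zpow_mem ha _)).mul_pow, ← hj, ← zpow_natCast (a ^ (-i)), ← zpow_mul,
      ← zpow_add]
    rw [show j + -i * (p : ℤ) = 0 by rw [hi]; ring, zpow_zero]
  have hdn : d ∉ Subgroup.zpowers a := by
    intro h
    refine hcn ?_
    have : c = d * a ^ i := by rw [hd, zpow_neg, inv_mul_cancel_right]
    rw [this]
    exact mul_mem h (Subgroup.zpow_mem_zpowers a i)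
  set z := a ^ p ^ (n - 1) with hz
  have hzp : z ^ p = 1 := by
    rw [hz, ← pow_mul, ← pow_succ, show n - 1 + 1 = n by omega, ← hn, pow_orderOf_eq_one]
  have hz1 : z ≠ 1 := by
    intro h
    have h2 := orderOf_dvd_of_pow_eq_one h
    rw [hn] at h2
    have := (Nat.pow_dvd_pow_iff_le_right hp.out.one_lt).1 h2
    omega
  have hE : IsElementaryAbelian p (Subgroup.zpowers z ⊔ Subgroup.zpowers d) := by
    refine elementary_sup ⟨Subgroup.zpowers_isMulCommutative z, ?_⟩ ?_ hdp
    · rintro _ ⟨k, rfl⟩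
      show (z ^ k) ^ p = 1
      rw [← zpow_natCast, ← zpow_mul, mul_comm, zpow_mul, zpow_natCast, hzp, one_zpow]
    · rintro _ ⟨k, rfl⟩
      exact hcomm hdA (A.zpow_mem (A.pow_mem ha _) k)
  have hcard := card_sup_zpowers (Z := Subgroup.zpowers z) (u := d)
    (by rw [Nat.card_zpowers]; exact orderOf_eq_prime hzp hz1)
    (by rintro _ ⟨k, rfl⟩; exact hcomm hdA (A.zpow_mem (A.pow_mem ha _) k)) hdp
    (fun h => hdn (Subgroup.zpowers_le.2 (Subgroup.pow_mem _ (Subgroup.mem_zpowers a) _) h))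
  have := hsmall _ (sup_le (Subgroup.zpowers_le.2 (A.pow_mem ha _)) (Subgroup.zpowers_le.2 hdA)) hE
  rw [hcard] at this
  nlinarith [hp.out.two_le]

/-- A maximal normal abelian subgroup of a `p`-group is self-centralizing. -/
theorem centralizer_le_of_maximal (hP : IsPGroup p P) {A : Subgroup P} [A.Normal]
    (hA : IsMulCommutative A)
    (hmax : ∀ B : Subgroup P, B.Normal → IsMulCommutative B → A ≤ B → B = A) :
    Subgroup.centralizer (A : Set P) ≤ A := by
  by_contra hne
  have hlt : A < Subgroup.centralizer (A : Set P) :=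
    lt_of_le_not_ge (Subgroup.le_centralizer_iff_isMulCommutative.2 hA) hne
  obtain ⟨b, hbC, hbA, -, hb⟩ := exists_central_mod hP hlt
  have hn : (A ⊔ Subgroup.zpowers b).Normal := normal_sup_zpowers fun g => by
    have := mul_mem (Subgroup.mem_sup_left (hb g)) (Subgroup.mem_sup_right (Subgroup.mem_zpowers b))
    simpa using this
  have hc := commutative_sup hA (fun a ha => (Subgroup.mem_centralizer_iff.1 hbC a ha).symm)
  exact hbA ((hmax _ hn hc le_sup_left).le (Subgroup.mem_sup_right (Subgroup.mem_zpowers b)))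

theorem prime_dvd_sub_one {r : ℤ} {n : ℕ} (hn : 1 ≤ n) {m : ℕ}
    (h : ((p : ℤ) ^ n) ∣ r ^ p ^ m - 1) : (p : ℤ) ∣ r - 1 := by
  have h1 : (p : ℤ) ∣ r ^ p ^ m - 1 := dvd_trans (dvd_pow_self _ (by omega)) h
  rw [← ZMod.intCast_zmod_eq_zero_iff_dvd] at h1 ⊢
  push_cast at h1 ⊢
  rwa [ZMod.pow_card_pow] at h1

/-- `r ^ p ≡ 1 (mod p ^ n)` gives `r ≡ 1` modulo `p ^ (n-1)` for odd `p`, and `r ≡ ±1` for `p = 2`. -/
theorem congr_pred {r : ℤ} {n : ℕ} (hn : 1 ≤ n) (h : ((p : ℤ) ^ n) ∣ r ^ p - 1) :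
    ((p : ℤ) ^ (n - 1)) ∣ r - 1 ∨ (p = 2 ∧ ((p : ℤ) ^ (n - 1)) ∣ r + 1) := by
  have h1 : (p : ℤ) ∣ r - 1 := prime_dvd_sub_one (m := 1) hn (by rwa [pow_one])
  rcases hp.out.eq_two_or_odd' with h2 | h2
  · subst h2
    obtain ⟨q, hq⟩ := h1
    push_cast at hq h ⊢
    rcases n with _ | _ | n
    · omega
    · left; simp
    have h' : (2 : ℤ) ^ (n + 2) ∣ 2 * q * (2 * (q + 1)) := by
      have : r ^ 2 - 1 = 2 * q * (2 * (q + 1)) := by
        have : r = 2 * q + 1 := by omega
        subst this; ring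
      rwa [this] at h
    have h'' : (2 : ℤ) ^ n ∣ q * (q + 1) := by
      refine (mul_dvd_mul_iff_left (show (4 : ℤ) ≠ 0 by norm_num)).1 ?_
      have e1 : (4 : ℤ) * 2 ^ n = 2 ^ (n + 2) := by ring
      have e2 : (4 : ℤ) * (q * (q + 1)) = 2 * q * (2 * (q + 1)) := by ring
      rwa [e1, e2]
    have hp2 : Prime (2 : ℤ) := Int.prime_two
    simp only [show n + 2 - 1 = n + 1 by omega, pow_succ']
    rcases Int.even_or_odd q with hqe | hqo
    · left
      have : ¬ (2 : ℤ) ∣ q + 1 := by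
        intro hd; obtain ⟨u, hu⟩ := hd; obtain ⟨v, hv⟩ := hqe; omega
      rw [hq]
      exact mul_dvd_mul_left 2 (hp2.pow_dvd_of_dvd_mul_right n this h'')
    · right
      refine ⟨trivial, ?_⟩
      have : ¬ (2 : ℤ) ∣ q := by
        intro hd; obtain ⟨u, hu⟩ := hd; obtain ⟨v, hv⟩ := hqo; omega
      rw [show r + 1 = 2 * (q + 1) by omega]
      exact mul_dvd_mul_left 2 (hp2.pow_dvd_of_dvd_mul_left n this h'')
  · left
    have hr : ¬ (p : ℤ) ∣ r := by
      intro hd
      have h1' := dvd_sub hd h1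
      rw [sub_sub_cancel] at h1'
      exact hp.out.not_dvd_one (by exact_mod_cast h1')
    rw [← one_pow (M := ℤ) p] at h
    rw [pow_dvd_iff_le_emultiplicity] at h ⊢
    rw [Int.emultiplicity_pow_sub_pow hp.out h2 h1 hr p,
      Nat.Prime.emultiplicity_self hp.out] at h
    generalize emultiplicity (p : ℤ) (r - 1) = e at h ⊢
    cases e with
    | top => exact le_top
    | coe k =>
      norm_cast at h ⊢
      omega

/-- A `p`-group of `p`-rank at least 3 has a normal elementary abelian subgroup of order `p ^ 2`. -/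
theorem exists_normal_card_sq (hP : IsPGroup p P) {W : Subgroup P} (hW : IsElementaryAbelian p W)
    (hWc : p ^ 3 ≤ Nat.card W) :
    ∃ U : Subgroup P, U.Normal ∧ IsElementaryAbelian p U ∧ Nat.card U = p ^ 2 := by
  by_contra hno
  have hsmallN : ∀ N : Subgroup P, N.Normal → IsElementaryAbelian p N → Nat.card N ≤ p := by
    intro N hN hNe
    by_contra hlt
    obtain ⟨k, hk⟩ := (hP.to_subgroup N).exists_card_eq
    have hk2 : 2 ≤ k := by
      by_contra h2
      apply hlt
      rw [hk]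
      calc p ^ k ≤ p ^ 1 := Nat.pow_le_pow_right hp.out.pos (by omega)
        _ = p := pow_one p
    exact hno (exists_normal_sq_le hP hNe (hk ▸ Nat.pow_le_pow_right hp.out.pos hk2))
  have hWnz : p < Nat.card W := lt_of_lt_of_le (by
    calc p = p ^ 1 := (pow_one p).symm
      _ < p ^ 3 := Nat.pow_lt_pow_right hp.out.one_lt (by norm_num)) hWc
  -- a maximal normal abelian subgroup
  obtain ⟨A, ⟨hAn, hAc⟩, hAmax⟩ := (Set.toFinite {A : Subgroup P | A.Normal ∧ IsMulCommutative A}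
    ).exists_maximalFor id _ ⟨⊥, inferInstance, inferInstance⟩
  have hcent : Subgroup.centralizer (A : Set P) ≤ A := centralizer_le_of_maximal hP hAc
    fun B hB hBc hle => le_antisymm (hAmax ⟨hB, hBc⟩ hle) hle
  have hA1 : A ≠ ⊥ := by
    intro hbot
    have : W ≤ A := fun w _ => hcent (by
      rw [Subgroup.mem_centralizer_iff]
      intro a ha
      rw [SetLike.mem_coe, hbot, Subgroup.mem_bot] at ha
      rw [ha, one_mul, mul_one])
    have := Subgroup.card_dvd_of_le this
    rw [hbot, Subgroup.card_bot, Nat.dvd_one] at this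
    have := hp.out.two_le
    omega
  have hcomm : ∀ {x y : P}, x ∈ A → y ∈ A → Commute x y := fun {x y} hx hy =>
    congrArg Subtype.val (mul_comm' (⟨x, hx⟩ : A) ⟨y, hy⟩)
  let Om : Subgroup P :=
    { carrier := {x | x ∈ A ∧ x ^ p = 1}
      mul_mem' := fun {x y} hx hy => ⟨A.mul_mem hx.1 hy.1, by
        rw [(hcomm hx.1 hy.1).mul_pow, hx.2, hy.2, one_mul]⟩
      one_mem' := ⟨A.one_mem, one_pow p⟩
      inv_mem' := fun {x} hx => ⟨A.inv_mem hx.1, by rw [inv_pow, hx.2, inv_one]⟩ }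
  have hOm : Om.Normal := ⟨fun x hx g => ⟨hAn.conj_mem x hx.1 g, by
    rw [conj_pow, hx.2, mul_one, mul_inv_cancel]⟩⟩
  have hOmab : IsElementaryAbelian p Om :=
    ⟨⟨⟨fun x y => Subtype.ext (hcomm x.2.1 y.2.1)⟩⟩, fun x hx => hx.2⟩
  have hOmc := hsmallN Om hOm hOmab
  obtain ⟨a, n, hgen, hord, hn1⟩ := exists_generator hP hAc hA1 fun E hE hEe =>
    (Nat.le_of_dvd Nat.card_pos
      (Subgroup.card_dvd_of_le (show E ≤ Om from fun x hx => ⟨hE hx, hEe.2 x hx⟩))).trans hOmc
  have haA : a ∈ A := hgen ▸ Subgroup.mem_zpowers a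
  set z := a ^ p ^ (n - 1) with hzdef
  have hzp : z ^ p = 1 := by
    rw [hzdef, ← pow_mul, ← pow_succ, show n - 1 + 1 = n by omega, ← hord, pow_orderOf_eq_one]
  have hz1 : z ≠ 1 := by
    intro h
    have h2 := orderOf_dvd_of_pow_eq_one h
    rw [hord] at h2
    have := (Nat.pow_dvd_pow_iff_le_right hp.out.one_lt).1 h2
    omega
  set Z := Subgroup.zpowers z with hZdef
  have hZcard : Nat.card Z = p := by rw [Nat.card_zpowers]; exact orderOf_eq_prime hzp hz1
  have hzA : z ∈ A := A.pow_mem haA _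
  have hZOm : Z = Om := by
    refine Subgroup.eq_of_le_of_card_ge (Subgroup.zpowers_le.2 ⟨hzA, hzp⟩) ?_
    rw [hZcard]; exact hOmc
  have hZn : Z.Normal := hZOm ▸ hOm
  have hzc : ∀ g : P, Commute g z := by
    intro g
    obtain ⟨b, hb, hb1, -, hbc⟩ := exists_central_mod hP (bot_lt_iff_ne_bot.2
      (fun h => hz1 (Subgroup.zpowers_eq_bot.1 h)) : (⊥ : Subgroup P) < Z)
    rw [Subgroup.mem_bot] at hb1
    have hbz : Subgroup.zpowers b = Z := Subgroup.eq_of_le_of_card_ge (Subgroup.zpowers_le.2 hb) (by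
      rw [hZcard, Nat.card_zpowers, orderOf_eq_prime (by
        have := hb; rw [hZOm] at this; exact this.2) hb1])
    obtain ⟨k, hk⟩ := (hbz ▸ Subgroup.mem_zpowers z : z ∈ Subgroup.zpowers b)
    rw [show z = b ^ k from hk.symm]
    exact (mul_inv_eq_iff_eq_mul.1 (mul_inv_eq_one.1 ((Subgroup.mem_bot).1 (hbc g))) : g * b = b * g) |>
      fun h => Commute.zpow_right h k
  -- commutators with a
  have hphi : ∀ x : P, ∀ r : ℤ, x * a * x⁻¹ = a ^ r → ((p : ℤ) ^ (n - 1)) ∣ r - 1 →
      x * a * x⁻¹ * a⁻¹ ∈ Z := by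
    intro x r hr hdvd
    obtain ⟨i, hi⟩ := hdvd
    refine ⟨i, ?_⟩
    show z ^ i = _
    rw [hr, hzdef, ← zpow_natCast a, ← zpow_mul, ← zpow_sub_one, hi]
    push_cast; rfl
  have hpow : ∀ (x : P) (r : ℤ), x * a * x⁻¹ = a ^ r → ∀ k, x ^ k * a * (x ^ k)⁻¹ = a ^ (r ^ k) := by
    intro x r hr k
    induction k with
    | zero => simp
    | succ k ih =>
      calc x ^ (k + 1) * a * (x ^ (k + 1))⁻¹ = x * (x ^ k * a * (x ^ k)⁻¹) * x⁻¹ := by
            rw [pow_succ']; group
        _ = _ := by rw [ih, ← conj_zpow, hr, ← zpow_mul, pow_succ']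
  have hkey : ∀ (x : P) (r : ℤ), x * a * x⁻¹ = a ^ r → ∀ k, x ^ k = 1 →
      ((p : ℤ) ^ n) ∣ r ^ k - 1 := by
    intro x r hr k hk
    have h2 := hpow x r hr k
    rw [hk, one_mul, inv_one, mul_one] at h2
    have h3 : a ^ (r ^ k - 1) = 1 := by rw [zpow_sub_one, ← h2, mul_inv_cancel]
    have h4 := orderOf_dvd_iff_zpow_eq_one.2 h3
    rw [hord] at h4
    exact_mod_cast h4
  -- elements of W outside A
  have hWA : Nat.card ↥(W ⊓ A) ≤ p := (Nat.le_of_dvd Nat.card_pos (Subgroup.card_dvd_of_le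
    (show W ⊓ A ≤ Om from fun x hx => ⟨hx.2, hW.2 x hx.1⟩))).trans hOmc
  -- two elements with commutator in Z differ by an element of A
  have hcoset : ∀ w u : P, w ∉ A → w * a * w⁻¹ * a⁻¹ ∈ Z → u * a * u⁻¹ * a⁻¹ ∈ Z →
      ∃ i : ℕ, i < p ∧ (w ^ i)⁻¹ * u ∈ A := by
    intro w u hwA hw hu
    set c := w * a * w⁻¹ * a⁻¹ with hc
    have hc1 : c ≠ 1 := by
      intro h
      apply hwA
      apply hcent
      rw [← hgen, Subgroup.mem_centralizer_iff]
      have h' : Commute w a := mul_inv_eq_iff_eq_mul.1 (mul_inv_eq_one.1 h)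
      rintro _ ⟨k, rfl⟩
      exact ((h'.zpow_right k).symm).eq
    have hco : orderOf c = p := orderOf_eq_prime ((hZOm ▸ hw : c ∈ Om)).2 hc1
    have hcZ : Subgroup.zpowers c = Z := Subgroup.eq_of_le_of_card_ge (Subgroup.zpowers_le.2 hw)
      (by rw [hZcard, Nat.card_zpowers, hco])
    obtain ⟨i, hi⟩ := (mem_powers_iff_mem_zpowers.2 (hcZ ▸ hu : u * a * u⁻¹ * a⁻¹ ∈ Subgroup.zpowers c))
    refine ⟨i % p, Nat.mod_lt _ hp.out.pos, hcent ?_⟩
    have hi' : c ^ (i % p) = u * a * u⁻¹ * a⁻¹ := by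
      rw [← hco, pow_mod_orderOf]; exact hi
    have hcc : ∀ g : P, Commute c g := by
      obtain ⟨k, hk⟩ := hw
      intro g
      rw [show c = z ^ k from hk.symm]
      exact ((hzc g).zpow_right k).symm
    have hw' : w * a * w⁻¹ = c * a := by simp [hc]
    have hwpow : ∀ k, w ^ k * a * (w ^ k)⁻¹ = c ^ k * a := by
      intro k
      induction k with
      | zero => simp
      | succ k ih =>
        calc w ^ (k + 1) * a * (w ^ (k + 1))⁻¹ = w * (w ^ k * a * (w ^ k)⁻¹) * w⁻¹ := by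
              rw [pow_succ']; group
          _ = w * (c ^ k * a) * w⁻¹ := by rw [ih]
          _ = c ^ k * (w * a * w⁻¹) := by
              rw [← mul_assoc w, (((hcc w).pow_left k).symm).eq]; group
          _ = c ^ (k + 1) * a := by rw [hw', ← mul_assoc, ← pow_succ]
    have hu' : u * a * u⁻¹ = w ^ (i % p) * a * (w ^ (i % p))⁻¹ := by
      rw [hwpow, hi', inv_mul_cancel_right]
    rw [← hgen, Subgroup.mem_centralizer_iff]
    have h' : Commute ((w ^ (i % p))⁻¹ * u) a := by
      show _ * a = a * _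
      rw [mul_assoc, mul_inv_eq_iff_eq_mul.1 hu']
      group
    rintro _ ⟨k, rfl⟩
    exact ((h'.zpow_right k).symm).eq
  rcases Nat.lt_or_ge n 3 with hn | hn
  · -- small A
    have hall : ∀ x : P, x * a * x⁻¹ * a⁻¹ ∈ Z := by
      intro x
      obtain ⟨r, hr⟩ := eq_zpow_of_conj hgen x
      obtain ⟨k, hk⟩ := hP x
      refine hphi x r hr (dvd_trans (pow_dvd_pow _ (show n - 1 ≤ 1 by omega)) ?_)
      rw [pow_one]
      exact prime_dvd_sub_one hn1 (hkey x r hr _ hk)
    have hWnA : ¬ W ≤ A := by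
      intro h
      rw [inf_eq_left.2 h] at hWA
      omega
    obtain ⟨w, -, hwA⟩ := SetLike.not_le_iff_exists.1 hWnA
    have hcardP : Nat.card P ≤ p ^ 3 := by
      have hsurj : Function.Surjective (fun x : Fin p × A => w ^ (x.1 : ℕ) * (x.2 : P)) := by
        intro u
        obtain ⟨i, hi, hiu⟩ := hcoset w u hwA (hall w) (hall u)
        exact ⟨(⟨i, hi⟩, ⟨_, hiu⟩), mul_inv_cancel_left _ _⟩
      refine (Nat.card_le_card_of_surjective _ hsurj).trans ?_
      rw [Nat.card_prod, Nat.card_fin, ← hgen, Nat.card_zpowers, hord, ← pow_succ']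
      exact Nat.pow_le_pow_right hp.out.pos (by omega)
    have hWtop : W = ⊤ := Subgroup.eq_top_of_le_card _ (hcardP.trans hWc)
    have := hsmallN W (hWtop ▸ inferInstance) hW
    omega
  · -- a good element of W outside A
    obtain ⟨w, hwW, hwA, hwZ⟩ : ∃ w ∈ W, w ∉ A ∧ w * a * w⁻¹ * a⁻¹ ∈ Z := by
      by_contra hcon
      have hbad : ∀ x ∈ W, x ∉ A → p = 2 ∧ ∃ r : ℤ, x * a * x⁻¹ = a ^ r ∧
          ((p : ℤ) ^ (n - 1)) ∣ r + 1 := by
        intro x hx hxA
        obtain ⟨r, hr⟩ := eq_zpow_of_conj hgen x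
        rcases congr_pred hn1 (hkey x r hr p (hW.2 x hx)) with h | h
        · exact absurd ⟨x, hx, hxA, hphi x r hr h⟩ hcon
        · exact ⟨h.1, r, hr, h.2⟩
      have hWnA : ¬ W ≤ A := by
        intro h
        rw [inf_eq_left.2 h] at hWA
        omega
      obtain ⟨u, huW, huA⟩ := SetLike.not_le_iff_exists.1 hWnA
      obtain ⟨hp2, r, hr, hr1⟩ := hbad u huW huA
      have hsurj : Function.Surjective (fun x : Bool × ↥(W ⊓ A) =>
          (⟨(bif x.1 then u else 1) * (x.2 : P), W.mul_mem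
            (by cases x.1 <;> simp [huW]) x.2.2.1⟩ : W)) := by
        intro v
        by_cases hvA : (v : P) ∈ A
        · exact ⟨(false, ⟨v, v.2, hvA⟩), Subtype.ext (one_mul _)⟩
        · obtain ⟨-, s, hs, hs1⟩ := hbad v v.2 hvA
          have huv : u⁻¹ * (v : P) ∈ A := by
            by_contra hout
            have hmem : u⁻¹ * (v : P) ∈ W := W.mul_mem (W.inv_mem huW) v.2
            have huinv : u⁻¹ = u := inv_eq_of_mul_eq_one_right (by
              rw [← sq, ← hp2]; exact hW.2 u huW)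
            refine hcon ⟨_, hmem, hout, hphi _ (r * s) ?_ ?_⟩
            · rw [huinv]
              calc u * v * a * (u * v)⁻¹ = u * ((v : P) * a * (v : P)⁻¹) * u⁻¹ := by group
                _ = _ := by rw [hs, ← conj_zpow, hr, ← zpow_mul]
            · rw [show r * s - 1 = r * (s + 1) - (r + 1) by ring]
              exact dvd_sub (dvd_mul_of_dvd_right hs1 _) hr1
          exact ⟨(true, ⟨u⁻¹ * v, W.mul_mem (W.inv_mem huW) v.2, huv⟩),
            Subtype.ext (mul_inv_cancel_left _ _)⟩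
      have h1 := Nat.card_le_card_of_surjective _ hsurj
      rw [Nat.card_prod, Nat.card_eq_fintype_card (α := Bool), Fintype.card_bool] at h1
      have h8 : (8 : ℕ) ≤ Nat.card W := by rw [hp2] at hWc; exact hWc
      omega
    have hwp : w ^ p = 1 := hW.2 w hwW
    have hwc : ∀ x ∈ Z, Commute w x := by
      rintro _ ⟨k, rfl⟩
      exact (hzc w).zpow_right k
    have hnorm : (Z ⊔ Subgroup.zpowers w).Normal := by
      refine normal_sup_zpowers fun g => ?_
      set v := g * w * g⁻¹ with hv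
      have hvZ : v * a * v⁻¹ * a⁻¹ ∈ Z := by
        obtain ⟨r, hr⟩ := eq_zpow_of_conj hgen g⁻¹
        have hcz : Commute (w * a * w⁻¹ * a⁻¹) a := by
          obtain ⟨k, hk⟩ := hwZ
          rw [show w * a * w⁻¹ * a⁻¹ = z ^ k from hk.symm]
          exact ((hzc a).zpow_right k).symm
        have hwr : w * a ^ r * w⁻¹ * (a ^ r)⁻¹ ∈ Z := by
          rw [← conj_zpow, show w * a * w⁻¹ = (w * a * w⁻¹ * a⁻¹) * a from (inv_mul_cancel_right _ _).symm,
            hcz.mul_zpow, mul_inv_cancel_right]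
          exact Z.zpow_mem hwZ r
        rw [← hr] at hwr
        have := hZn.conj_mem _ hwr g
        rw [hv]
        convert this using 1
        group
      obtain ⟨i, -, hi⟩ := hcoset w v hwA hwZ hvZ
      set t := (w ^ i)⁻¹ * v with ht
      obtain ⟨k, hk⟩ := (hgen ▸ hi : t ∈ Subgroup.zpowers a)
      have hk' : a ^ k = t := hk
      have hwt : w * t * w⁻¹ * t⁻¹ ∈ Z := by
        rw [← hk', ← conj_zpow, show w * a * w⁻¹ = (w * a * w⁻¹ * a⁻¹) * a from (inv_mul_cancel_right _ _).symm]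
        have hcz : Commute (w * a * w⁻¹ * a⁻¹) a := by
          obtain ⟨j, hj⟩ := hwZ
          rw [show w * a * w⁻¹ * a⁻¹ = z ^ j from hj.symm]
          exact ((hzc a).zpow_right j).symm
        rw [hcz.mul_zpow, mul_inv_cancel_right]
        exact Z.zpow_mem hwZ k
      -- modulo Z the two commute
      have hq : Commute ((QuotientGroup.mk' Z) w) ((QuotientGroup.mk' Z) t) := by
        show _ * _ = _ * _
        rw [← mul_inv_eq_one, ← map_mul, ← map_mul, ← map_inv, ← map_mul,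
          QuotientGroup.mk'_apply, QuotientGroup.eq_one_iff]
        simpa [mul_assoc] using hwt
      have htp : t ^ p ∈ Z := by
        have hvp : v ^ p = 1 := by rw [hv, conj_pow, hwp, mul_one, mul_inv_cancel]
        rw [← QuotientGroup.eq_one_iff, QuotientGroup.mk_pow]
        show (QuotientGroup.mk' Z t) ^ p = 1
        have hvq : QuotientGroup.mk' Z v = QuotientGroup.mk' Z w ^ i * QuotientGroup.mk' Z t := by
          rw [← map_pow, ← map_mul, ht, mul_inv_cancel_left]
        have := congrArg (· ^ p) hvq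
        rw [← map_pow, hvp, map_one, (hq.pow_left i).mul_pow, ← pow_mul, mul_comm, pow_mul, ← map_pow,
          hwp, map_one, one_pow, one_mul] at this
        exact this.symm
      have hkdvd : (p : ℤ) ∣ k := by
        obtain ⟨j, hj⟩ := htp
        have hj' : z ^ j = t ^ p := hj
        rw [← hk', hzdef, ← zpow_natCast a, ← zpow_natCast (a ^ k), ← zpow_mul, ← zpow_mul] at hj'
        have h2 : a ^ (((p ^ (n - 1) : ℕ) : ℤ) * j - k * p) = 1 := by
          rw [zpow_sub, hj', mul_inv_cancel]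
        have h3 := orderOf_dvd_iff_zpow_eq_one.2 h2
        rw [hord] at h3
        push_cast at h3
        have h4 : ((p : ℤ) ^ 2) ∣ k * p := by
          have e1 : ((p : ℤ) ^ 2) ∣ (p : ℤ) ^ (n - 1) * j :=
            dvd_mul_of_dvd_left (pow_dvd_pow _ (by omega)) _
          have e2 := dvd_trans (pow_dvd_pow _ (show 2 ≤ n by omega)) h3
          have := dvd_sub e1 e2
          rwa [sub_sub_cancel] at this
        rw [sq] at h4
        exact Int.dvd_of_mul_dvd_mul_right (by exact_mod_cast hp.out.ne_zero) h4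
      have hwt' : Commute w t := by
        obtain ⟨j, rfl⟩ := hkdvd
        rw [← hk', zpow_mul, zpow_natCast]
        obtain ⟨m, hm⟩ := hwZ
        have hm' : w * a * w⁻¹ = z ^ m * a := by
          rw [show z ^ m = w * a * w⁻¹ * a⁻¹ from hm]; simp
        refine Commute.zpow_right ?_ j
        show w * a ^ p = a ^ p * w
        rw [← mul_inv_eq_iff_eq_mul, ← conj_pow, hm', ((hzc a).zpow_right m).symm.mul_pow,
          ← zpow_natCast (z ^ m), ← zpow_mul, mul_comm m, zpow_mul, zpow_natCast, hzp, one_zpow, one_mul]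
      have htp1 : t ^ p = 1 := by
        have hvp : v ^ p = 1 := by rw [hv, conj_pow, hwp, mul_one, mul_inv_cancel]
        have hvt : v = w ^ i * t := by rw [ht, mul_inv_cancel_left]
        rw [hvt, (hwt'.pow_left i).mul_pow, ← pow_mul, mul_comm, pow_mul, hwp, one_pow, one_mul] at hvp
        exact hvp
      have htZ : t ∈ Z := hZOm ▸ (⟨hi, htp1⟩ : t ∈ Om)
      have hvt : v = w ^ i * t := by rw [ht, mul_inv_cancel_left]
      rw [hvt]
      exact mul_mem (Subgroup.mem_sup_right (Subgroup.pow_mem _ (Subgroup.mem_zpowers w) i))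
        (Subgroup.mem_sup_left htZ)
    have hZe : IsElementaryAbelian p Z := hZOm ▸ hOmab
    exact hno ⟨_, hnorm, elementary_sup hZe hwc hwp,
      card_sup_zpowers hZcard hwc hwp fun h => hwA (Subgroup.zpowers_le.2 hzA h)⟩

/-- The centralizer of a normal `E_{p^2}` meets every subgroup in index at most `p`. -/
theorem card_le_mul_centralizer (hP : IsPGroup p P) {U : Subgroup P} [U.Normal]
    (hU : IsElementaryAbelian p U) (hUc : Nat.card U = p ^ 2) (W : Subgroup P) :
    Nat.card W ≤ p * Nat.card ↥(W ⊓ Subgroup.centralizer (U : Set P)) := by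
  have hU1 : (⊥ : Subgroup P) < U := by
    rw [bot_lt_iff_ne_bot]
    rintro rfl
    rw [Subgroup.card_bot] at hUc
    nlinarith [hp.out.two_le]
  obtain ⟨z, hzU, hz1, -, hzc⟩ := exists_central_mod hP hU1
  rw [Subgroup.mem_bot] at hz1
  have hzc' : ∀ g : P, Commute g z := fun g =>
    mul_inv_eq_iff_eq_mul.1 (mul_inv_eq_one.1 ((Subgroup.mem_bot).1 (hzc g)))
  set Z := Subgroup.zpowers z with hZdef
  have hzord : orderOf z = p := orderOf_eq_prime (hU.2 z hzU) hz1
  have hZcard : Nat.card Z = p := by rw [Nat.card_zpowers, hzord]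
  have hZn : Z.Normal := ⟨fun x hx g => by
    obtain ⟨i, rfl⟩ := hx
    exact ⟨i, by
      show z ^ i = g * z ^ i * g⁻¹
      rw [((hzc' g).zpow_right i).eq, mul_inv_cancel_right]⟩⟩
  have hlt : Z < U := by
    refine lt_of_le_of_ne (Subgroup.zpowers_le.2 hzU) fun he => ?_
    rw [← he, hZcard] at hUc
    nlinarith [hp.out.two_le]
  obtain ⟨u, huU, huZ, -, huc⟩ := exists_central_mod hP hlt
  have hcomU : ∀ {x y : P}, x ∈ U → y ∈ U → Commute x y := fun {x y} hx hy => by
    have := hU.1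
    exact congrArg Subtype.val (mul_comm' (⟨x, hx⟩ : U) ⟨y, hy⟩)
  have hUeq : Z ⊔ Subgroup.zpowers u = U := by
    refine Subgroup.eq_of_le_of_card_ge (sup_le hlt.le (Subgroup.zpowers_le.2 huU)) ?_
    rw [hUc, card_sup_zpowers hZcard (fun x hx => hcomU huU (hlt.le hx)) (hU.2 u huU) huZ]
  have hcz : ∀ c ∈ Z, ∀ g : P, Commute g c := by
    rintro _ ⟨k, rfl⟩ g
    exact (hzc' g).zpow_right k
  let φ : W →* P :=
    { toFun := fun x => (x : P) * u * (x : P)⁻¹ * u⁻¹
      map_one' := by simp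
      map_mul' := fun x y => by
        have hy := hcz _ (huc y) x
        calc ((x * y : W) : P) * u * ((x * y : W) : P)⁻¹ * u⁻¹
            = (x : P) * ((y : P) * u * (y : P)⁻¹ * u⁻¹) * (u * (x : P)⁻¹ * u⁻¹) := by
              push_cast; group
          _ = ((y : P) * u * (y : P)⁻¹ * u⁻¹) * ((x : P) * u * (x : P)⁻¹ * u⁻¹) := by
              rw [hy.eq]; group
          _ = _ := hcz _ (huc x) _ }
  have h1 : Nat.card φ.range ≤ p := by
    rw [← hZcard]
    refine Nat.le_of_dvd Nat.card_pos (Subgroup.card_dvd_of_le ?_)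
    rintro _ ⟨x, rfl⟩
    exact huc x
  have h2 : φ.ker.map W.subtype ≤ W ⊓ Subgroup.centralizer (U : Set P) := by
    rintro _ ⟨x, hx, rfl⟩
    refine ⟨x.2, ?_⟩
    have hxu : Commute (x : P) u :=
      mul_inv_eq_iff_eq_mul.1 (mul_inv_eq_one.1 (MonoidHom.mem_ker.1 hx))
    show (x : P) ∈ Subgroup.centralizer (U : Set P)
    have h3 : U ≤ Subgroup.centralizer {(x : P)} := by
      rw [← hUeq]
      refine sup_le (fun c hc => Subgroup.mem_centralizer_singleton_iff.2 (hcz c hc x).symm.eq) ?_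
      exact Subgroup.zpowers_le.2 (Subgroup.mem_centralizer_singleton_iff.2 hxu.symm.eq)
    exact Subgroup.mem_centralizer_iff.2 fun c hc => Subgroup.mem_centralizer_singleton_iff.1 (h3 hc)
  rw [← Subgroup.card_mul_index φ.ker, Subgroup.index_ker, mul_comm]
  refine Nat.mul_le_mul h1 ?_
  rw [← Subgroup.card_map_of_injective W.subtype_injective]
  exact Nat.le_of_dvd Nat.card_pos (Subgroup.card_dvd_of_le h2)

end Cfsg.Agent.PNormal
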